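import Groth.Agent.SymAlg.BundleCrit

/-!
Uniqueness of the morphism into a projective bundle attached to sections of an invertible module.
-/

set_option autoImplicit false
set_option backward.isDefEq.respectTransparency false
set_option linter.style.haveILetI false
set_option linter.unusedSectionVars false

universe u

open CategoryTheory CategoryTheory.Limits DirectSum AlgebraicGeometry TopologicalSpace Opposite
open scoped HomogeneousIdeal
open Groth.Agent.QC (res resO res_res res_self res_smul app_res)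

noncomputable section

namespace Groth.Agent.SymAlg.UnivProp

open Groth.Agent
open TMul (IsGen)

variable {X Y P : Scheme.{u}} {E : Y.Modules} (hE : Coh.IsQCoh E) {𝒮 : RelProj.QCGrAlg Y}
  {j : E ⟶ 𝒮.toModule} (hj : RelProj.IsGrSymAlg E 𝒮 j) {p : P ⟶ Y}
  {ch : ∀ (U : Y.Opens) (hU : IsAffineOpen U), ((p ⁻¹ᵁ U : P.Opens) : Scheme.{u}) ≅ Proj (𝒮.deg U hU)}
  (hP : RelProj.IsRelProj 𝒮 p ch) {O1 : P.Modules}
  {lam : ∀ (U : Y.Opens) (hU : IsAffineOpen U), O1 ⟶ (RelTilde.Datum.self 𝒮).E p ch 1 U hU}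
  (hO1 : (RelTilde.Datum.self 𝒮).IsTilde p ch 1 O1 lam)
  {φ : E ⟶ (Scheme.Modules.pushforward p).obj O1} (hφ : IsFund j lam φ) {L : X.Modules}

include hj in
/-- Dehomogenisation reaches all functions on `D₊(j e)`. -/
lemma bundleFn_surjective (U : Y.Opens) (hU : IsAffineOpen U) (e : Γ(E, U)) :
    Function.Surjective (bundleFn (p := p) (ch := ch) hj U hU e) := by
  intro x
  obtain ⟨y, rfl⟩ := (ConcreteCategory.bijective_of_isIso
    ((RelProj.emb p ch U hU).appIso (Proj.basicOpen (𝒮.deg U hU) (jE j U e))).inv).2 x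
  obtain ⟨k, a, ha, -, rfl⟩ := RelTilde.exists_away (𝒮.deg U hU) (f := jE j U e) (hj.2 U hU e) one_pos y
  refine ⟨a, ?_⟩
  have ha' : a ∈ 𝒮.deg U hU k := by
    have := ha
    rwa [smul_eq_mul, mul_one] at this
  change ((RelProj.emb p ch U hU).appIso (Proj.basicOpen (𝒮.deg U hU) (jE j U e))).inv.hom
    (RelTilde.dehomRing (𝒮.deg U hU) (f := jE j U e) (hj.2 U hU e) a) = _
  rw [RelTilde.dehomRing_of_mem (𝒮.deg U hU) _ ha']

include hj hP in
/-- The open where a dehomogenised section is invertible lies in the chart of that section. -/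
lemma basicOpen_bundleFn_le (U : Y.Opens) (hU : IsAffineOpen U) (e e' : Γ(E, U)) :
    P.basicOpen (bundleFn (p := p) (ch := ch) hj U hU e' (jE j U e)) ≤ DjE p ch j U hU e := by
  rw [bundleFn, RingHom.comp_apply, ← Scheme.image_basicOpen,
    RelTilde.dehomRing_of_mem (𝒮.deg U hU) _ (a := jE j U e) (hj.2 U hU e),
    RelTilde.basicOpen_away (𝒮.deg U hU) _ one_pos one_pos, Proj.basicOpen_mul]
  exact (RelProj.emb p ch U hU).image_mono inf_le_right

variable (r : X ⟶ P) (θ : O1 ⟶ (Scheme.Modules.pushforward r).obj L)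
  (hθ : ∀ (V : P.Opens) (s : Γ(O1, V)), IsGen s → IsGen (X := X) (N := L) (U := r ⁻¹ᵁ V) (θ.app V s))

include hj hO1 hφ in
lemma res_bundleκ (U : Y.Opens) (hU : IsAffineOpen U) (e m : Γ(E, U)) (V : X.Opens)
    (h : V ≤ r ⁻¹ᵁ DjE p ch j U hU e) (h' : V ≤ r ⁻¹ᵁ (p ⁻¹ᵁ U)) :
    res L h' ((bundleκ φ r θ).app U m) =
      pullFn (i := r) hj U hU e V h (jE j U m) • genL φ θ U hU e V h := by
  rw [bundleκ_app]
  have h3 : res L h' (θ.app (p ⁻¹ᵁ U) (φ.app U m)) =
      res L h (θ.app (DjE p ch j U hU e) (res O1 (DjE_le U hU e) (φ.app U m : Γ(O1, p ⁻¹ᵁ U)))) := by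
    rw [← app_res θ (DjE_le U hU e)]
    exact (res_res L h (r.preimage_mono (DjE_le U hU e)) _).symm
  rw [h3, res_phi_eq hO1 hj hφ U hU e m, Scheme.Modules.Hom.app_smul]
  exact res_smul L h _ _

include hE hj hP hO1 hφ hθ in
/-- A morphism is determined by the images of the sections of `E`. -/
theorem eq_of_compat (r' : X ⟶ P) (hr : r' ≫ p = r ≫ p)
    (θ' : O1 ⟶ (Scheme.Modules.pushforward r').obj L)
    (hθ' : ∀ (V : P.Opens) (s : Γ(O1, V)), IsGen s → IsGen (X := X) (N := L) (U := r' ⁻¹ᵁ V) (θ'.app V s))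
    (hκ : ∀ (U : Y.Opens) (hU : IsAffineOpen U) (m : Γ(E, U)) (V : X.Opens)
      (h : V ≤ r ⁻¹ᵁ (p ⁻¹ᵁ U)) (h' : V ≤ r' ⁻¹ᵁ (p ⁻¹ᵁ U)),
      res L h' ((bundleκ φ r' θ').app U m) = res L h ((bundleκ φ r θ).app U m)) :
    r' = r := by
  haveI : E.IsQuasicoherent := hE
  have hb : ∀ x : X, p.base (r'.base x) = p.base (r.base x) := fun x =>
    congrArg (fun f : X ⟶ Y => f.base x) hr
  have hloc : ∀ x : X, ∃ (U : Y.Opens) (hU : IsAffineOpen U) (e : Γ(E, U)) (V : X.Opens),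
      IsAffineOpen V ∧ x ∈ V ∧ V ≤ r ⁻¹ᵁ DjE p ch j U hU e ∧ V ≤ r' ⁻¹ᵁ DjE p ch j U hU e := by
    intro x
    obtain ⟨U, hU, hxU, -⟩ := exists_isAffineOpen_mem_and_subset (x := p.base (r.base x)) (U := ⊤) trivial
    obtain ⟨e, V₁, -, hx₁, hV₁, -⟩ := exists_chart hE hj (i := r) (ch := ch) U hU x hxU
    obtain ⟨e', V₂, -, hx₂, hV₂, -⟩ := exists_chart hE hj (i := r') (ch := ch) U hU x
      (show p.base (r'.base x) ∈ U by rw [hb]; exact hxU)
    obtain ⟨V, hV, hxV, hle⟩ := exists_isAffineOpen_mem_and_subset (U := V₁ ⊓ V₂) (x := x) ⟨hx₁, hx₂⟩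
    have h1 : V ≤ r ⁻¹ᵁ DjE p ch j U hU e := fun y hy => hV₁ (hle hy).1
    have h2 : V ≤ r' ⁻¹ᵁ DjE p ch j U hU e' := fun y hy => hV₂ (hle hy).2
    have h1' : V ≤ r ⁻¹ᵁ (p ⁻¹ᵁ U) := h1.trans (r.preimage_mono (DjE_le U hU e))
    have h2' : V ≤ r' ⁻¹ᵁ (p ⁻¹ᵁ U) := h2.trans (r'.preimage_mono (DjE_le U hU e'))
    have hg1 := isGen_genL hj hO1 hφ θ hθ U hU e V h1
    have hg2 := isGen_genL hj hO1 hφ θ' hθ' U hU e' V h2
    let c := pullFn (i := r') hj U hU e' V h2 (jE j U e)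
    have hc : c • genL φ θ' U hU e' V h2 = genL φ θ U hU e V h1 := by
      rw [← res_bundleκ hj hO1 hφ r' θ' U hU e' e V h2 h2', hκ U hU e V h1' h2',
        res_bundleκ hj hO1 hφ r θ U hU e e V h1 h1']
      rw [show pullFn (i := r) hj U hU e V h1 (jE j U e) = 1 by
        simp only [pullFn, RingHom.comp_apply, bundleFn_self hj U hU e, map_one]]
      exact one_smul _ _
    have hcu : IsUnit c := by
      obtain ⟨d, hd⟩ := (hg1 V le_rfl).2 (genL φ θ' U hU e' V h2)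
      simp only [res_self] at hd
      refine IsUnit.of_mul_eq_one d ((hg2 V le_rfl).1 ?_)
      simp only [res_self, one_smul]
      rw [mul_comm, mul_smul, hc, hd]
    refine ⟨U, hU, e, V, hV, hxV, h1, ?_⟩
    have hbo : V ≤ r' ⁻¹ᵁ P.basicOpen (bundleFn (p := p) (ch := ch) hj U hU e' (jE j U e)) := by
      have hc' : X.basicOpen c = V := Scheme.basicOpen_of_isUnit X hcu
      rw [← hc']
      simp only [c, pullFn, RingHom.comp_apply, Scheme.Hom.appLE, CommRingCat.hom_comp]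
      rw [Scheme.basicOpen_res, ← Scheme.preimage_basicOpen]
      exact inf_le_right
    exact hbo.trans (r'.preimage_mono (basicOpen_bundleFn_le hj hP U hU e e'))
  choose U hU e V hV hxV h1 h2 using hloc
  let 𝒲 : X.OpenCover := Scheme.Cover.mkOfCovers X (fun x => Spec Γ(X, V x)) (fun x => (hV x).fromSpec)
    (fun x => ⟨x, (hV x).primeIdealOf ⟨x, hxV x⟩, (hV x).fromSpec_primeIdealOf ⟨x, hxV x⟩⟩)
    (fun x => inferInstance)
  refine 𝒲.hom_ext _ _ fun x => ?_
  change (hV x).fromSpec ≫ r' = (hV x).fromSpec ≫ r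
  have hD : IsAffineOpen (DjE p ch j (U x) (hU x) (e x)) :=
    (Proj.isAffineOpen_basicOpen (𝒮.deg (U x) (hU x)) (jE j (U x) (e x)) (hj.2 (U x) (hU x) (e x)) one_pos).image_of_isOpenImmersion _
  rw [← IsAffineOpen.SpecMap_appLE_fromSpec r' hD (hV x) (h2 x),
    ← IsAffineOpen.SpecMap_appLE_fromSpec r hD (hV x) (h1 x)]
  congr 2
  ext a
  obtain ⟨a, rfl⟩ := bundleFn_surjective hj (U x) (hU x) (e x) a
  have key : pullFn (i := r') hj (U x) (hU x) (e x) (V x) (h2 x) =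
      pullFn (i := r) hj (U x) (hU x) (e x) (V x) (h1 x) := by
    have h1' : V x ≤ r ⁻¹ᵁ (p ⁻¹ᵁ U x) := (h1 x).trans (r.preimage_mono (DjE_le _ _ _))
    have h2' : V x ≤ r' ⁻¹ᵁ (p ⁻¹ᵁ U x) := (h2 x).trans (r'.preimage_mono (DjE_le _ _ _))
    have hgen : genL φ θ' (U x) (hU x) (e x) (V x) (h2 x) = genL φ θ (U x) (hU x) (e x) (V x) (h1 x) := by
      have := hκ (U x) (hU x) (e x) (V x) h1' h2'
      rw [res_bundleκ hj hO1 hφ r' θ' _ _ (e x) (e x) _ (h2 x) h2',
        res_bundleκ hj hO1 hφ r θ _ _ (e x) (e x) _ (h1 x) h1'] at this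
      simpa only [pullFn, RingHom.comp_apply, bundleFn_self hj, map_one, one_smul] using this
    refine RingHom.eq_of_eqOn_set_dense (SymAlgGen.gen_eq_top hj.1 (hU x)) ?_
    rintro _ (⟨a, rfl⟩ | ⟨m, rfl⟩)
    · change (r'.appLE _ _ (h2 x)).hom (bundleFn hj (U x) (hU x) (e x) ((𝒮.str.app (op (U x))).hom a)) =
        (r.appLE _ _ (h1 x)).hom (bundleFn hj (U x) (hU x) (e x) ((𝒮.str.app (op (U x))).hom a))
      rw [bundleFn_str hP hj]
      have e1 : ∀ (i : X ⟶ P) (hi : V x ≤ i ⁻¹ᵁ DjE p ch j (U x) (hU x) (e x)),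
          (i.appLE (DjE p ch j (U x) (hU x) (e x)) (V x) hi).hom
            (resO P (DjE_le (j := j) (ch := ch) (U x) (hU x) (e x)) ((p.app (U x)).hom a)) =
          ((i ≫ p).appLE (U x) (V x) (hi.trans (i.preimage_mono (DjE_le _ _ _)))).hom a := by
        intro i hi
        rw [Scheme.Hom.comp_appLE]
        change ((P.presheaf.map (homOfLE (DjE_le (j := j) (ch := ch) (U x) (hU x) (e x))).op) ≫
          i.appLE _ (V x) hi).hom ((p.app (U x)).hom a) = _
        rw [Scheme.Hom.map_appLE]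
        rfl
      rw [e1, e1]
      congr 3
    · have := hκ (U x) (hU x) m (V x) h1' h2'
      rw [res_bundleκ hj hO1 hφ r' θ' _ _ (e x) m _ (h2 x) h2',
        res_bundleκ hj hO1 hφ r θ _ _ (e x) m _ (h1 x) h1', hgen] at this
      refine ((isGen_genL hj hO1 hφ θ hθ (U x) (hU x) (e x) (V x) (h1 x)) (V x) le_rfl).1 ?_
      simp only [res_self]
      exact this
  exact DFunLike.congr_fun key a

end Groth.Agent.SymAlg.UnivProp
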