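import Groth.Agent.SymAlg.UnivProp.Exist
import Groth.Agent.SymAlg.UnivProp.Uniq

/-!
The universal property of a projective bundle.
-/

set_option autoImplicit false
set_option backward.isDefEq.respectTransparency false
set_option linter.style.haveILetI false

universe u

open CategoryTheory CategoryTheory.Limits AlgebraicGeometry TopologicalSpace Opposite
open scoped HomogeneousIdeal
open Groth.Agent.QC (res app_res res_res)

noncomputable section

namespace Groth.Agent.SymAlg.UnivProp

open Groth.Agent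
open TMul (IsGen)

set_option maxHeartbeats 800000 in
/-- Morphisms into a projective bundle are invertible quotients. -/
theorem existsUnique_to_bundle {Y P X : Scheme.{u}} {E : Y.Modules} (hE : Coh.IsQCoh E)
    {𝒮 : RelProj.QCGrAlg Y} {j : E ⟶ 𝒮.toModule} (hj : RelProj.IsGrSymAlg E 𝒮 j) {p : P ⟶ Y}
    {ch : ∀ (U : Y.Opens) (hU : IsAffineOpen U), ((p ⁻¹ᵁ U : P.Opens) : Scheme.{u}) ≅ Proj (𝒮.deg U hU)}
    (hP : RelProj.IsRelProj 𝒮 p ch) {O1 : P.Modules}
    {lam : ∀ (U : Y.Opens) (hU : IsAffineOpen U), O1 ⟶ (RelTilde.Datum.self 𝒮).E p ch 1 U hU}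
    (hO1 : (RelTilde.Datum.self 𝒮).IsTilde p ch 1 O1 lam)
    {φ : E ⟶ (Scheme.Modules.pushforward p).obj O1} (hφ : IsFund j lam φ)
    (g : X ⟶ Y) {L : X.Modules} (hL : PicF.IsInvertible L)
    (s : (Scheme.Modules.pullback g).obj E ⟶ L) (hs : Epi s) :
    ∃! r : X ⟶ P, ∃ (hr : r ≫ p = g) (τ : (Scheme.Modules.pullback r).obj O1 ≅ L),
      (Scheme.Modules.pullbackCongr hr).inv.app E ≫ (Scheme.Modules.pullbackComp r p).inv.app E ≫
        (Scheme.Modules.pullback r).map
          (((Scheme.Modules.pullbackPushforwardAdjunction p).homEquiv E O1).symm φ) ≫ τ.hom = s := by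
  have hLq : Coh.IsQCoh L := TMul.isQCoh_of_isInvertible hL
  obtain ⟨𝒮L, jl, hjl⟩ := exists_isGrSymAlg hLq
  let κ := (Scheme.Modules.pullbackPushforwardAdjunction g).homEquiv E L s
  haveI : Epi (((Scheme.Modules.pullbackPushforwardAdjunction g).homEquiv E L).symm κ) := by
    simp only [κ, Equiv.symm_apply_apply]; exact hs
  obtain ⟨r, hr, θ, hθi, hθκ⟩ := exists_classifying (κ := κ) hE hL hLq hj hjl hP hO1 hφ
  subst hr
  have hgen : ∀ {r : X ⟶ P} (τ : (Scheme.Modules.pullback r).obj O1 ≅ L) (V : P.Opens) (t : Γ(O1, V)),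
      IsGen t → IsGen (X := X) (N := L) (U := r ⁻¹ᵁ V)
        (((Scheme.Modules.pullbackPushforwardAdjunction r).homEquiv O1 L τ.hom).app V t) := by
    intro r τ V t ht
    have := isGen_pullθ r τ.symm hL hO1.isQCoh t ht
    rw [Adjunction.homEquiv_unit]
    exact this
  let τ := @asIso _ _ _ _ _ hθi
  have hκeq : bundleκ φ r θ = κ := by
    refine Scheme.Modules.hom_ext _ _ fun W => ?_
    ext m
    refine QC.section_eq_of_locally (M := L) fun x hx => ?_
    obtain ⟨U, hU, hxU, hUW⟩ := exists_isAffineOpen_mem_and_subset (x := p.base (r.base x)) (U := W) hx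
    have hUW' : U ≤ W := hUW
    refine ⟨(r ≫ p) ⁻¹ᵁ U, (r ≫ p).preimage_mono hUW', hxU, ?_⟩
    refine (app_res (bundleκ φ r θ) hUW' m).trans (Eq.trans ?_ (app_res κ hUW' m).symm)
    have := hθκ U hU (res E hUW' m) _ le_rfl le_rfl
    exact (QC.res_self L le_rfl _).symm.trans (this.trans (QC.res_self L le_rfl _))
  refine ⟨r, ⟨rfl, τ, ?_⟩, ?_⟩
  · refine ((Scheme.Modules.pullbackPushforwardAdjunction (r ≫ p)).homEquiv E L).injective ?_
    have h1 := homEquiv_comp_adjunct r p φ τ.hom
    rw [show ((Scheme.Modules.pullbackPushforwardAdjunction r).homEquiv O1 L τ.hom) = θ from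
      Equiv.apply_symm_apply _ _] at h1
    simp only [Scheme.Modules.pullbackCongr, eqToIso_refl, Iso.refl_inv, NatTrans.id_app,
      Category.id_comp]
    exact h1.trans hκeq
  · rintro r' ⟨hr', τ', hτ'⟩
    let θ' := (Scheme.Modules.pullbackPushforwardAdjunction r').homEquiv O1 L τ'.hom
    have hθg : ∀ (V : P.Opens) (t : Γ(O1, V)), IsGen t →
        IsGen (X := X) (N := L) (U := r ⁻¹ᵁ V) (θ.app V t) := fun V t ht => by
      have := hgen τ V t ht
      rwa [show ((Scheme.Modules.pullbackPushforwardAdjunction r).homEquiv O1 L τ.hom) = θ from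
        Equiv.apply_symm_apply _ _] at this
    refine eq_of_compat hE hj hP hO1 hφ r θ hθg r' hr' θ' (hgen τ') fun U hU m V h h' => ?_
    have h1 := homEquiv_comp_adjunct r' p φ τ'.hom
    have e : ∀ {g' : X ⟶ Y} (e : r' ≫ p = g') (s' : (Scheme.Modules.pullback g').obj E ⟶ L),
        (Scheme.Modules.pullbackCongr e).inv.app E ≫ (Scheme.Modules.pullbackComp r' p).inv.app E ≫
          (Scheme.Modules.pullback r').map
            (((Scheme.Modules.pullbackPushforwardAdjunction p).homEquiv E O1).symm φ) ≫ τ'.hom = s' →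
        ∀ (h'' : V ≤ g' ⁻¹ᵁ U), res L h' ((bundleκ φ r' θ').app U m) =
          res L h'' (((Scheme.Modules.pullbackPushforwardAdjunction g').homEquiv E L s').app U m) := by
      intro g' e s' hs' h''
      subst e
      simp only [Scheme.Modules.pullbackCongr, eqToIso_refl, Iso.refl_inv, NatTrans.id_app,
        Category.id_comp] at hs'
      subst hs'
      rw [h1]
      rfl
    rw [e hr' s hτ' h, hκeq]
    rfl

end Groth.Agent.SymAlg.UnivProp
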