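import Groth.Agent.SymAlg.CanonMap
import Groth.Agent.SymAlg.VAmpleTensor
import Groth.Agent.QC.PullSect
import Groth.Agent.FSysMod.Quot

/-!
The morphism into a projective bundle attached to a generating family of sections of an invertible
module.
-/

set_option autoImplicit false
set_option backward.isDefEq.respectTransparency false
set_option linter.style.haveILetI false
set_option linter.unusedSectionVars false

universe u

open CategoryTheory CategoryTheory.Limits DirectSum AlgebraicGeometry TopologicalSpace Opposite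
open scoped HomogeneousIdeal
open Groth.Agent.QC (res resO res_res res_self res_smul app_res)

noncomputable section

namespace Groth.Agent.SymAlg.UnivProp

open Groth.Agent
open TMul (IsGen)

variable {X Y P PL : Scheme.{u}} {g : X ⟶ Y} {E : Y.Modules} (hE : Coh.IsQCoh E)
  {L : X.Modules} (hL : PicF.IsInvertible L) (hLq : Coh.IsQCoh L)
  {κ : E ⟶ (Scheme.Modules.pushforward g).obj L} {𝒮 : RelProj.QCGrAlg Y}
  {j : E ⟶ 𝒮.toModule} (hj : RelProj.IsGrSymAlg E 𝒮 j)
  {𝒮L : RelProj.QCGrAlg X} {jl : L ⟶ 𝒮L.toModule} (hjl : RelProj.IsGrSymAlg L 𝒮L jl)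
  {p : P ⟶ Y}
  {ch : ∀ (U : Y.Opens) (hU : IsAffineOpen U), ((p ⁻¹ᵁ U : P.Opens) : Scheme.{u}) ≅ Proj (𝒮.deg U hU)}
  {u : RelProj.QGrHom g 𝒮 𝒮L}
  (hu : ∀ (U : Y.Opens), IsAffineOpen U → ∀ m : Γ(E, U),
      (u.app U).hom (j.app U m : 𝒮.presheaf.obj (op U)) = jL jl (g ⁻¹ᵁ U) (κ.app U m))

/-- The adjunct of a composite of pull-backs. -/
theorem homEquiv_comp_adjunct {A B C : Scheme.{u}} (r : A ⟶ B) (p : B ⟶ C) {M : C.Modules}
    {N : B.Modules} {K : A.Modules} (φ : M ⟶ (Scheme.Modules.pushforward p).obj N)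
    (ν : (Scheme.Modules.pullback r).obj N ⟶ K) :
    (Scheme.Modules.pullbackPushforwardAdjunction (r ≫ p)).homEquiv M K
        ((Scheme.Modules.pullbackComp r p).inv.app M ≫ (Scheme.Modules.pullback r).map
          (((Scheme.Modules.pullbackPushforwardAdjunction p).homEquiv M N).symm φ) ≫ ν) =
      φ ≫ (Scheme.Modules.pushforward p).map
          ((Scheme.Modules.pullbackPushforwardAdjunction r).homEquiv N K ν) ≫
        (Scheme.Modules.pushforwardComp r p).hom.app K := by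
  refine Scheme.Modules.hom_ext _ _ fun W => ?_
  ext m
  let ψ := ((Scheme.Modules.pullbackPushforwardAdjunction p).homEquiv M N).symm φ
  have hψ : ψ.app (p ⁻¹ᵁ W) (OmegaSh.pullSect p M W m) = φ.app W m := by
    have h1 : ((Scheme.Modules.pullbackPushforwardAdjunction p).unit.app M ≫
        (Scheme.Modules.pushforward p).map ψ) = φ :=
      ((Scheme.Modules.pullbackPushforwardAdjunction p).homEquiv_unit M N ψ).symm.trans
        (Equiv.apply_symm_apply _ _)
    exact congr(($h1).app W m)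
  have hc : ((Scheme.Modules.pullbackComp r p).inv.app M).app (r ⁻¹ᵁ (p ⁻¹ᵁ W))
      (OmegaSh.pullSect (r ≫ p) M W m) =
      OmegaSh.pullSect r ((Scheme.Modules.pullback p).obj M) (p ⁻¹ᵁ W) (OmegaSh.pullSect p M W m) := by
    rw [← QC.pullbackComp_hom_pullSect]
    exact congr(($((Scheme.Modules.pullbackComp r p).hom_inv_id_app M)).app (r ⁻¹ᵁ (p ⁻¹ᵁ W)) _)
  rw [Adjunction.homEquiv_unit, Adjunction.homEquiv_unit]
  change ν.app (r ⁻¹ᵁ (p ⁻¹ᵁ W)) (((Scheme.Modules.pullback r).map ψ).app (r ⁻¹ᵁ (p ⁻¹ᵁ W))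
      (((Scheme.Modules.pullbackComp r p).inv.app M).app (r ⁻¹ᵁ (p ⁻¹ᵁ W))
        (OmegaSh.pullSect (r ≫ p) M W m))) =
    ν.app (r ⁻¹ᵁ (p ⁻¹ᵁ W)) (OmegaSh.pullSect r N (p ⁻¹ᵁ W) (φ.app W m))
  rw [hc, ← hψ, QC.app_pullSect]

variable (g E κ) in
/-- Affine pairs on which a section of `E` generates `L`. -/
structure GPair where
  U : Y.Opens
  hU : IsAffineOpen U
  U' : X.Opens
  hU' : IsAffineOpen U'
  le : U' ≤ g ⁻¹ᵁ U
  m : Γ(E, U)
  gen : IsGen (res L le (κ.app U m))

include hu hj hjl hLq in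
lemma hirr_gpair (c : GPair g E κ) :
    (𝒮L.deg c.U' c.hU')₊ ≤ ((𝒮.deg c.U c.hU)₊).map (u.gradedAt c.U c.hU c.U' c.hU' c.le) := by
  intro b hb
  obtain ⟨a, rfl⟩ := Ideal.mem_span_singleton'.mp (irrelevant_le_span hLq hjl c.hU' c.gen hb)
  change a * _ ∈ Ideal.map (u.gradedAt c.U c.hU c.U' c.hU' c.le) ((𝒮.deg c.U c.hU)₊).toIdeal
  refine Ideal.mul_mem_left _ a ?_
  rw [← appLE_of_app hu c.hU c.le c.m]
  refine Ideal.mem_map_of_mem _ ?_
  exact HomogeneousIdeal.mem_irrelevant_of_mem _ one_pos (hj.2 c.U c.hU c.m)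

include hE hL hLq in
/-- An epimorphism from the pull-back gives generating pairs. -/
theorem exists_gpair [hs : Epi (((Scheme.Modules.pullbackPushforwardAdjunction g).homEquiv E L).symm κ)]
    (x : X) : ∃ c : GPair g E κ, x ∈ c.U' := by
  classical
  obtain ⟨U, hU, hxU, -⟩ := exists_isAffineOpen_mem_and_subset (x := g.base x) (U := ⊤) trivial
  obtain ⟨W, hW, ℓ, hxW, hWU, hℓ⟩ := exists_triv hL (O := g ⁻¹ᵁ U) (x := x) hxU
  have h1 := span_range_eq_top hE hLq
    (((Scheme.Modules.pullbackPushforwardAdjunction g).homEquiv E L).symm κ) hU hW hWU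
  simp only [Equiv.apply_symm_apply] at h1
  choose a ha using fun m : Γ(E, U) => exists_smul_eq hℓ (res L hWU (κ.app U m))
  have h2 := span_coeff_eq_top hℓ _ h1 a ha
  have h3 : (⨆ f : (Set.range a : Set Γ(X, W)), X.basicOpen f.1) = W :=
    (IsAffineOpen.iSup_basicOpen_eq_self_iff hW).mpr h2
  obtain ⟨⟨_, m, rfl⟩, hm⟩ := Opens.mem_iSup.mp (h3.ge hxW)
  refine ⟨⟨U, hU, X.basicOpen (a m), hW.basicOpen (a m), (X.basicOpen_le _).trans hWU, m, ?_⟩, hm⟩
  rw [← res_res L (X.basicOpen_le (a m)) hWU, ← ha, res_smul]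
  refine TMul.isGen_smul (TMul.IsGen.res hℓ _) ?_
  exact RingedSpace.isUnit_res_basicOpen X.toLocallyRingedSpace.toRingedSpace (a m)

variable {pL : PL ⟶ X}
  {chartL : ∀ (U : X.Opens) (hU : IsAffineOpen U), ((pL ⁻¹ᵁ U : PL.Opens) : Scheme.{u}) ≅ Proj (𝒮L.deg U hU)}

set_option maxHeartbeats 1600000 in
include hE hL hLq hj hjl in
/-- Existence of the classifying morphism, together with its comparison of fundamental sheaves. -/
theorem exists_classifying (hP : RelProj.IsRelProj 𝒮 p ch) {O1 : P.Modules}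
    {lam : ∀ (U : Y.Opens) (hU : IsAffineOpen U), O1 ⟶ (RelTilde.Datum.self 𝒮).E p ch 1 U hU}
    (hO1 : (RelTilde.Datum.self 𝒮).IsTilde p ch 1 O1 lam)
    {φ : E ⟶ (Scheme.Modules.pushforward p).obj O1} (hφ : IsFund j lam φ)
    [Epi (((Scheme.Modules.pullbackPushforwardAdjunction g).homEquiv E L).symm κ)] :
    ∃ r : X ⟶ P, r ≫ p = g ∧ ∃ θ : O1 ⟶ (Scheme.Modules.pushforward r).obj L,
      IsIso (((Scheme.Modules.pullbackPushforwardAdjunction r).homEquiv O1 L).symm θ) ∧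
      ∀ (U : Y.Opens) (hU : IsAffineOpen U) (m : Γ(E, U)) (V : X.Opens) (h : V ≤ g ⁻¹ᵁ U)
        (h' : V ≤ r ⁻¹ᵁ (p ⁻¹ᵁ U)),
        res L h' (θ.app (p ⁻¹ᵁ U) (φ.app U m)) = res L h (κ.app U m) := by
  haveI : E.IsQuasicoherent := hE
  have hcov : ∀ x : X, ∃ c : GPair g E κ, x ∈ c.U' := exists_gpair hE hL hLq
  obtain ⟨u, hu⟩ := exists_qGrOfMap hE hj hjl κ
  obtain ⟨PL, pL, chartL, hPL⟩ := RelProjLib.exists_isRelProj 𝒮L
  haveI := isIso_pL hL hLq hjl hPL
  obtain ⟨r₀, hr₀, -⟩ := RelProjLib.existsUnique_qmap u hP hPL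
  have htop : RelProj.domQ u pL chartL = ⊤ := RelProjLib.domQ_eq_top_of_forall u hPL fun x => by
    obtain ⟨c, hc⟩ := hcov x
    exact ⟨c.U, c.hU, c.U', c.hU', c.le, hc, hirr_gpair hLq hj hjl hu c⟩
  haveI : IsIso (RelProj.domQ u pL chartL).ι := by
    rw [htop, ← Scheme.topIso_hom]; infer_instance
  let r : X ⟶ P := inv pL ≫ inv (RelProj.domQ u pL chartL).ι ≫ r₀
  have hg : RelProj.IsProjQMap u p ch pL chartL (pL ≫ r) := by
    simp only [r, IsIso.hom_inv_id_assoc]
    exact isProjQMap_inv hr₀ htop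
  have hrp : r ≫ p = g := by
    have := RelProjLib.qmap_over u hP hPL hr₀
    simp only [r, Category.assoc, this, IsIso.inv_hom_id_assoc]
  refine ⟨r, hrp, ?_⟩
  let C : RelTilde.ChartMap (RelTilde.Datum.self 𝒮) (RelTilde.Datum.self 𝒮L) p pL ch chartL (pL ≫ r) :=
    { ι := GPair g E κ
      U := fun c => c.U
      U' := fun c => c.U'
      hU := fun c => c.hU
      hU' := fun c => c.hU'
      cover := fun z => by
        obtain ⟨c, hc⟩ := hcov (pL.base z)
        exact ⟨c, hc⟩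
      χ := fun c => u.gradedAt c.U c.hU c.U' c.hU' c.le
      hirr := fun c => hirr_gpair hLq hj hjl hu c
      v := fun c => RelTilde.ringHomSemilinear (u.gradedAt c.U c.hU c.U' c.hU' c.le)
      hv := fun c => RelTilde.ringHomSemilinear_mem _
      square := fun c => by
        refine (Proj.mapAffineOpenCover (u.gradedAt c.U c.hU c.U' c.hU' c.le)
          (hirr_gpair hLq hj hjl hu c)).openCover.hom_ext _ _ fun s => ?_
        simp only [Scheme.AffineOpenCover.openCover_f, Proj.mapAffineOpenCover_f]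
        rw [Proj.awayι_comp_map_assoc _ _ s.1.2 _ s.2.2]
        refine Eq.trans ?_ (hg.2 c.U c.hU c.U' c.hU' c.le s.1 s.1.2 _ s.2.2)
        rw [← Category.assoc]
        rfl
      natRing := fun c k b b' a => by
        change (u.appLE c.U c.U' c.le ≫ 𝒮L.presheaf.map (homOfLE b'.le).op).hom a =
          (𝒮.presheaf.map (homOfLE b.le).op ≫ u.appLE k.U k.U' k.le).hom a
        rw [u.toQHom.appLE_map, RelSpec.QHom.appLE_eq, RelSpec.QHom.appLE_eq, ← Category.assoc,
          ← u.naturality b.le, Category.assoc, ← Functor.map_comp]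
        rfl
      natMod := fun c k b b' a => by
        change (u.appLE c.U c.U' c.le ≫ 𝒮L.presheaf.map (homOfLE b'.le).op).hom a =
          (𝒮.presheaf.map (homOfLE b.le).op ≫ u.appLE k.U k.U' k.le).hom a
        rw [u.toQHom.appLE_map, RelSpec.QHom.appLE_eq, RelSpec.QHom.appLE_eq, ← Category.assoc,
          ← u.naturality b.le, Category.assoc, ← Functor.map_comp]
        rfl
      common := fun c k O hO bc bk x hx => by
        obtain ⟨t, t', htt', hxt⟩ := exists_basicOpen_le_affine_inter c.hU k.hU (g.base (pL.base x))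
          ⟨c.le (bc.le hx), k.le (bk.le hx)⟩
        obtain ⟨s, hs, hxs⟩ := hO.exists_basicOpen_le (V := g ⁻¹ᵁ Y.basicOpen t) ⟨pL.base x, hxt⟩ hx
        refine ⟨⟨Y.basicOpen t, c.hU.basicOpen t, X.basicOpen s, hO.basicOpen s, hs,
          res E (Y.basicOpen_le t) c.m, ?_⟩, hxs,
          RelTilde.isB_basicOpen t, ⟨t', htt'.symm⟩, RelTilde.isB_basicOpen s⟩
        rw [← app_res κ]
        change IsGen (res L _ (res L (g.preimage_mono (Y.basicOpen_le t)) (κ.app c.U c.m)))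
        rw [res_res]
        have h := c.gen.res ((X.basicOpen_le s).trans bc.le)
        rwa [res_res] at h }
  obtain ⟨L₁, lam₁, hL₁⟩ := (RelTilde.Datum.self 𝒮L).exists_isTilde hPL (1 : ℤ)
  obtain ⟨θ, hθ, -⟩ := C.existsUnique_comap 1 hP hPL hO1 hL₁
  have hgen : 𝒮.IsGenDegOne := fun U hU => by
    refine top_le_iff.mp ?_
    rw [← SymAlgGen.gen_eq_top hj.1 hU]
    refine Subring.closure_mono ?_
    rintro _ (⟨a, rfl⟩ | ⟨m, rfl⟩)
    · exact Or.inl (𝒮.str_mem U hU a)
    · exact Or.inr (hj.2 U hU m)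
  haveI hθi : IsIso (((Scheme.Modules.pullbackPushforwardAdjunction (pL ≫ r)).homEquiv O1 L₁).symm θ) :=
    C.isIso_adjunct_comap 1 (fun _ _ => rfl) hgen hO1 hL₁ θ hθ
  obtain ⟨φL, hφL⟩ := exists_isFund hjl hPL hL₁
  haveI : IsIso (((Scheme.Modules.pullbackPushforwardAdjunction pL).homEquiv L L₁).symm φL) := by
    refine RelTilde.isIso_adjunct pL φL hLq hL₁.isQCoh fun z => ?_
    obtain ⟨U, hU, e, hxU, -, he⟩ := exists_triv hL (O := ⊤) (x := pL.base z) trivial
    refine ⟨U, hU, pL ⁻¹ᵁ U, hU.preimage pL, le_rfl, hxU,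
      RelTilde.isBC_of_isGen pL φL le_rfl e he ?_⟩
    exact isGen_fund hjl hL₁ hφL U hU e le_rfl
      (le_top.trans (basicOpen_gen_eq_top hLq hjl hU he).ge)
  haveI : (Scheme.Modules.pullback pL).IsEquivalence := FSysMod.isEquivalence_pullback (asIso pL)
  haveI : IsIso φL := by
    rw [← ((Scheme.Modules.pullbackPushforwardAdjunction pL).homEquiv L L₁).apply_symm_apply φL,
      Adjunction.homEquiv_unit]
    infer_instance
  let θX : O1 ⟶ (Scheme.Modules.pushforward r).obj L :=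
    θ ≫ (Scheme.Modules.pushforwardComp pL r).inv.app L₁ ≫ (Scheme.Modules.pushforward r).map (inv φL)
  have hθX : ∀ (W : P.Opens) (t : Γ(O1, W)),
      φL.app (r ⁻¹ᵁ W) (θX.app W t) = θ.app W t := fun W t => by
    change φL.app (r ⁻¹ᵁ W) ((inv φL).app (r ⁻¹ᵁ W) (θ.app W t)) = _
    exact congr(($(IsIso.inv_hom_id φL)).app (r ⁻¹ᵁ W) (θ.app W t))
  refine ⟨θX, ?_, fun U hU m V h h' => ?_⟩
  · let νX := ((Scheme.Modules.pullbackPushforwardAdjunction r).homEquiv O1 L).symm θX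
    let νL := ((Scheme.Modules.pullbackPushforwardAdjunction pL).homEquiv L L₁).symm φL
    have h1 := homEquiv_comp_adjunct pL r θX νL
    rw [Equiv.apply_symm_apply] at h1
    have h2 : θX ≫ (Scheme.Modules.pushforward r).map φL ≫
        (Scheme.Modules.pushforwardComp pL r).hom.app L₁ = θ := by
      refine Scheme.Modules.hom_ext _ _ fun W => ?_
      ext t
      exact hθX W t
    rw [h2, ← Equiv.eq_symm_apply] at h1
    have h3 : IsIso ((Scheme.Modules.pullback pL).map νX) := by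
      haveI : IsIso ((Scheme.Modules.pullbackComp pL r).inv.app O1 ≫
          (Scheme.Modules.pullback pL).map νX ≫ νL) := by rw [h1]; exact hθi
      haveI := IsIso.of_isIso_comp_left ((Scheme.Modules.pullbackComp pL r).inv.app O1)
        ((Scheme.Modules.pullback pL).map νX ≫ νL)
      exact IsIso.of_isIso_comp_right _ νL
    exact isIso_of_reflects_iso νX (Scheme.Modules.pullback pL)
  · refine (ConcreteCategory.bijective_of_isIso (φL.app V)).1 ?_
    refine (app_res φL h' _).symm.trans (Eq.trans ?_ (app_res φL h _))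
    refine (congrArg (res ((Scheme.Modules.pushforward pL).obj L₁) h') (hθX _ _)).trans ?_
    change res L₁ (pL.preimage_mono h') (θ.app (p ⁻¹ᵁ U) (φ.app U m)) =
      res L₁ (pL.preimage_mono h) (φL.app (g ⁻¹ᵁ U) (κ.app U m))
    refine QC.section_eq_of_locally fun z hz => ?_
    obtain ⟨c, hc⟩ := hcov (pL.base z)
    obtain ⟨t, t', htt', hxt⟩ := exists_basicOpen_le_affine_inter c.hU hU (g.base (pL.base z))
      ⟨c.le hc, h hz⟩
    obtain ⟨s, hs, hxs⟩ := c.hU'.exists_basicOpen_le (V := g ⁻¹ᵁ Y.basicOpen t) ⟨pL.base z, hxt⟩ hc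
    let k : GPair g E κ := ⟨Y.basicOpen t, c.hU.basicOpen t, X.basicOpen s, c.hU'.basicOpen s, hs,
      E.presheaf.map (homOfLE (Y.basicOpen_le t)).op c.m, by
        rw [← app_res κ]
        change IsGen (res L _ (res L (g.preimage_mono (Y.basicOpen_le t)) (κ.app c.U c.m)))
        rw [res_res]
        have h := c.gen.res (X.basicOpen_le s)
        rwa [res_res] at h⟩
    let O : PL.Opens := pL ⁻¹ᵁ (V ⊓ k.U')
    refine ⟨O, pL.preimage_mono inf_le_left, ⟨hz, hxs⟩,
      (hL₁.bijective' k.U' k.hU' O ((pL.preimage_mono inf_le_right).trans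
        (RelProjLib.opensRange_emb (𝒮 := 𝒮L) (q := pL) (ch := chartL) k.U' k.hU').ge)).1 ?_⟩
    have hBU : Y.basicOpen t ≤ U := htt'.le.trans (Y.basicOpen_le t')
    let mB : Γ(E, Y.basicOpen t) := E.presheaf.map (homOfLE hBU).op m
    refine RelTilde.pt_ext (𝒮L.deg k.U' k.hU') (𝒮L.deg k.U' k.hU') fun w => ?_
    have hOB : O ≤ (pL ≫ r) ⁻¹ᵁ (p ⁻¹ᵁ Y.basicOpen t) := fun x hx => by
      change p.base (r.base (pL.base x)) ∈ Y.basicOpen t
      have := congrArg (fun f : X ⟶ Y => f.base (pL.base x)) hrp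
      simp only [Scheme.Hom.comp_base, TopCat.coe_comp, Function.comp_apply] at this
      rw [this]
      exact hs hx.2
    have hm : res ((Scheme.Modules.pushforward p).obj O1) hBU (φ.app U m) =
        φ.app (Y.basicOpen t) mB := app_res φ hBU m
    have hκ : res L (g.preimage_mono hBU) (κ.app U m) = κ.app (Y.basicOpen t) mB := app_res κ hBU m
    have e1 : res L₁ (pL.preimage_mono (inf_le_left : V ⊓ k.U' ≤ V))
        (res L₁ (pL.preimage_mono h') (θ.app (p ⁻¹ᵁ U) (φ.app U m))) =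
        res L₁ hOB (θ.app (p ⁻¹ᵁ Y.basicOpen t) (φ.app (Y.basicOpen t) mB)) := by
      rw [res_res, ← hm]
      refine Eq.trans ?_ (congrArg (res L₁ hOB) (app_res θ (p.preimage_mono hBU) _))
      exact (res_res L₁ hOB ((pL ≫ r).preimage_mono (p.preimage_mono hBU)) _).symm
    have e2 : res L₁ (pL.preimage_mono (inf_le_left : V ⊓ k.U' ≤ V))
        (res L₁ (pL.preimage_mono h) (φL.app (g ⁻¹ᵁ U) (κ.app U m))) =
        res L₁ (pL.preimage_mono (inf_le_right : V ⊓ k.U' ≤ k.U'))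
          (φL.app k.U' (res L k.le (κ.app (Y.basicOpen t) mB))) := by
      rw [res_res, ← hκ, res_res, ← app_res φL]
      exact (res_res L₁ _ (pL.preimage_mono (k.le.trans (g.preimage_mono hBU))) _).symm
    rw [e1, e2]
    refine (RelTilde.Datum.IsTilde.app_res (lam := lam₁) hOB _ k.U' k.hU' w.1 w.2).trans ?_
    refine Eq.trans ?_ (RelTilde.Datum.IsTilde.app_res (lam := lam₁) _ _ k.U' k.hU' w.1 w.2).symm
    refine Eq.trans ?_ (hφL k.U' k.hU' _ ⟨w.1, pL.preimage_mono inf_le_right w.2⟩).symm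
    refine (congrArg (fun q => GrMod.val
      (V := RelProj.emb pL chartL k.U' k.hU' ⁻¹ᵁ ((pL ≫ r) ⁻¹ᵁ (p ⁻¹ᵁ Y.basicOpen t))) q ⟨w.1, hOB w.2⟩)
      (hθ k (p ⁻¹ᵁ Y.basicOpen t) (φ.app (Y.basicOpen t) mB))).trans ?_
    have hy : (RelProj.emb p ch k.U k.hU).base
        (ProjectiveSpectrum.comap (C.χ k) (C.hirr k) w.1) ∈ p ⁻¹ᵁ Y.basicOpen t :=
      RelTilde.mem_preimage_emb (q := p) (ch := ch) k.U k.hU _
    refine (C.val_read 1 k _ w.1 (hOB w.2) hy).trans ?_
    refine ((congrArg (GrMod.locModMap (C.χ k) (C.hirr k) (C.v k) w.1) (hφ k.U k.hU mB ⟨_, hy⟩))).trans ?_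
    rw [GrMod.locModMap_mk]
    exact congrArg₂ LocalizedModule.mk (appLE_of_app hu k.hU k.le mB)
      (Subtype.ext (map_one (C.χ k)))

end Groth.Agent.SymAlg.UnivProp
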